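import Cfsg.Agent.H504.XZ.StD
import Cfsg.Agent.H668.XZ.Two10
import Cfsg.Agent.H26.XZ.KThree
import Cfsg.Agent.H443.XC.Wrap

/-!
# S4791 + S4927, type `D_m`, `m ≥ 5`: the row from good nodes and forms (helper504)

* `row0_D` : `P` abelian, `e ≥ 3`: `e + 1` good nodes and the forms (K10 of helper668; no A-level);
* `driver_D` : the driver: all cases.
-/

set_option autoImplicit false
set_option linter.unusedSectionVars false

open Cfsg Subgroup

namespace Cfsg.Agent.H504.XZ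

open CoxeterSystem Cfsg.Agent.ChevalleyStructure.CoxeterGeom Cfsg.Agent.Tits.Roots Cfsg.Agent.Tits.Core
  Cfsg.Agent.Nodes.Reps Cfsg.Agent.Nodes.BNOf Cfsg.Agent.Nodes.StabComb Cfsg.Agent.Nodes.Comb
  Cfsg.Agent.Nodes.Bruhat Cfsg.Agent.Nodes.OppDec Cfsg.Agent.Nodes.LeviDec Cfsg.Agent.Characters.Core
  Cfsg.Agent.H796.BR Cfsg.Agent.H145.BR Cfsg.Agent.H967.XZ Cfsg.Agent.H603.AP Cfsg.Agent.H116.StAut
  Cfsg.Agent.H674.XZ Cfsg.Agent.H668.XZ Cfsg.Agent.H508.KB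
open scoped ComplexConjugate

universe u

variable {k : ℕ} {W : Type*} [Group W] [Finite W] {Y : Type u} [Group Y] [Finite Y]
  {cs : CoxeterSystem (Nodes.TypeD.M k) W} {A : Fin (k + 2) → Fin (k + 2) → ℤ} {h : IsCartan (Nodes.TypeD.M k) A} {r p : ℕ}
  {T : Subgroup Y} {n : Fin (k + 2) → Y} {X : (Fin (k + 2) → ℤ) → Subgroup Y} {M : Ideal AlgInt}
  [hr : Fact r.Prime] [hp : Fact p.Prime]

/-- a member of `famD` is a constituent of a rank-selected character contained in `famD` -/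
theorem famD_beta (R : RGD cs h r T n X) (hG : GG cs h T X = ⊤) {a : ℕ} {θ : IrrCharacter Y} (hθ : θ ∈ famD cs h T X a) :
    ∃ ψ : Y → ℂ, IsGeneralizedCharacter Y ψ ∧ (∀ g, ∃ z : ℤ, ψ g = z) ∧ ip ψ (θ : Y → ℂ) ≠ 0 ∧
      ∀ θ' : IrrCharacter Y, ip ψ (θ' : Y → ℂ) ≠ 0 → θ' ∈ famD cs h T X a := by
  obtain ⟨α, hα⟩ := hθ
  refine ⟨betaPJ cs h T X ((ge a : Finset (Fin (k + 2))).map (typHom R hG α).toEmbedding),
    ⟨_, 0, isCharacter_betaPJ R hG _, isCharacter_zero, (sub_zero _).symm⟩, fun g => ?_, ?_, fun θ' h1 => ?_⟩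
  · have h1 : ∃ z : ℤ, betaPJ cs h T X ((ge a : Finset (Fin (k + 2))).map (typHom R hG α).toEmbedding) g = z := by
      unfold betaPJ QPJ fixedPointCharacter
      refine ⟨∑ L ∈ ((ge a : Finset (Fin (k + 2))).map (typHom R hG α).toEmbedding).powerset, (-1 : ℤ) ^ L.card *
        (Nat.card (MulAction.fixedBy (Y ⧸ PJ cs h T X
          ((((ge a : Finset (Fin (k + 2))).map (typHom R hG α).toEmbedding)ᶜ ∪ L : Finset (Fin (k + 2))) :
            Set (Fin (k + 2)))) g) : ℤ), ?_⟩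
      push_cast
      rfl
    exact h1
  · rwa [← ip_beta_map R hG α (ge a) (θ : Y → ℂ) _ fun s => rfl]
  · refine ⟨α, ?_⟩
    rwa [ip_beta_map R hG α (ge a) (θ' : Y → ℂ) _ fun s => rfl]

/-- **The row**, `P` abelian, `e ≥ 3` -/
theorem row0_D (R : RGD cs h r T n X) (hG : GG cs h T X = ⊤) (hk : 3 ≤ k) (hM : IsPModular p M) (hpY : p ∣ Nat.card Y)
    (hab : AbOut p Y) {e c : ℕ} (hec : e * c = p - 1) (he : 3 ≤ e) {s : Finset ℕ}
    (hs : ∀ a ∈ s, a ≤ k + 2 ∧ GdD p M cs h T X a) (hR : e + 1 ≤ s.card) (h44 : e = 4 → c = 4 → 6 ≤ s.card)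
    (hF : H324.AP.FrmG p Y e) : Row0 p M Y := by
  have hc : 1 ≤ c := by
    rcases Nat.eq_zero_or_pos c with rfl | h
    · have := hp.out.two_le
      omega
    · exact h
  obtain ⟨θ, h1, h2⟩ := exists_mem_D R hG hs
  let ν : Fin s.card → s := s.equivFin.symm
  have hdis : ∀ i j, i ≠ j → Disjoint (famD cs h T X (ν i)) (famD cs h T X (ν j)) := fun i j hij =>
    famD_disj R hG hk (hs _ (ν i).2).1 (hs _ (ν j).2).1 fun e => hij (s.equivFin.symm.injective (Subtype.ext e))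
  have hmem : ∀ i, θ (ν i) ∈ famD cs h T X (ν i) := fun i => famD_of_ip (h2 (ν i)).2.1
  have horb : ∃ O : Fin ((c + 1) / 2) → Set (IrrCharacter Y), (∀ i, ∀ χ ∈ O i, Mem0 p M χ) ∧
      (∀ i j, i ≠ j → Disjoint (O i) (O j)) ∧ (∀ i, c ≤ (O i).ncard) ∧
      ∀ j, (∃ i, O j ⊆ famD cs h T X (ν i)) ∨ ∀ i, Disjoint (O j) (famD cs h T X (ν i)) := by
    rcases Nat.lt_or_ge c 2 with hc2 | hc2
    · obtain rfl : c = 1 := by omega
      let i0 : Fin s.card := ⟨0, by omega⟩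
      refine ⟨fun _ => {θ (ν i0)}, fun _ χ hχ => ?_, fun i j hij => ?_, fun _ => ?_, fun _ => Or.inl ⟨i0, ?_⟩⟩
      · rw [Set.mem_singleton_iff.1 hχ]
        exact (h2 _).1
      · exact absurd (Fin.ext (by omega)) hij
      · rw [Set.ncard_singleton]
      · rw [Set.singleton_subset_iff]
        exact hmem i0
    · obtain ⟨O, h3, h4, h5, h6⟩ := Cfsg.Agent.H26.XZ.exists_orb hM hec (by omega) hc2 hF hpY
      refine ⟨O, h3, h4, h5, fun j => ?_⟩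
      by_cases h7 : ∃ i, ∃ χ ∈ O j, χ ∈ famD cs h T X (ν i)
      · obtain ⟨i, χ, h8, h9⟩ := h7
        obtain ⟨ψ, h10, h11, h12, h13⟩ := famD_beta R hG h9
        refine Or.inl ⟨i, fun χ' hχ' => h13 χ' ?_⟩
        rcases h6 ψ h10 h11 j with h14 | h14
        · exact h14 χ' hχ'
        · exact absurd (h14 χ h8) h12
      · right
        intro i
        rw [Set.disjoint_left]
        exact fun χ h8 h9 => h7 ⟨i, χ, h8, h9⟩
  obtain ⟨O, h3, h4, h5, h6⟩ := horb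
  exact row0_of_two hM hab hec he hR h44 (typHom R hG).ker (index_ker_D R hG hk) (fun i => famD cs h T X (ν i)) hdis
    (fun i => ⟨θ (ν i), hmem i, (h2 _).1⟩) (fun i θ hθ _ θ' α _ e => famD_aut hθ α e)
    (fun i θ hθ _ α hα _ t => famD_fix R hG hθ hα t) O h3 h4 h5 h6

/-- **The driver**, type `D_m`, `m ≥ 5` : `s` a set of good nodes; `|s|² > 4 (p - 1)`, or `e ≤ 2` and the forms, or `e ≥ 3`,
`|s| ≥ e + 1` (`≥ 6` if `p = 17`, `e = 4`) and the forms. -/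
theorem driver_D (h11 : 11 ≤ p) (R : RGD cs h r T n X) (hG : GG cs h T X = ⊤) (hk : 3 ≤ k) (hM : IsPModular p M)
    (hpY : p ∣ Nat.card Y) (hab : AbOut p Y) {s : Finset ℕ} (hs : ∀ a ∈ s, a ≤ k + 2 ∧ GdD p M cs h T X a)
    (hnum : 4 * (p - 1) < s.card ^ 2 ∨ ∃ e c, e * c = p - 1 ∧ 1 ≤ e ∧ H324.AP.FrmG p Y e ∧
      (3 ≤ e → e + 1 ≤ s.card ∧ (e = 4 → c = 4 → 6 ≤ s.card))) : Row0 p M Y := by
  rcases hnum with h1 | ⟨e, c, h1, h2, h3, h4⟩
  · exact row0_of_stD R hG hk hM hs h1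
  · rcases Nat.lt_or_ge e 3 with h5 | h5
    · exact H443.XC.row0_of_frm hM h11 hpY hab h1 h2 (by omega) h3
    · exact row0_D R hG hk hM hpY hab h1 h5 hs (h4 h5).1 (h4 h5).2 h3

end Cfsg.Agent.H504.XZ
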