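import Cfsg.Agent.H668.XZ.Fam
import Cfsg.Agent.H307.XC.InvTyp

/-!
# S4791 + S4927: stable families (helper504)

* `le_kap0_of_stable`, `row0_of_stable` : pairwise disjoint sets of characters, stable under the automorphisms, each with a member
  in `X₀(S)`, `4 (p - 1) < R²`;
* `beta_map` : `betaPJ (σ K) ∘ α = betaPJ K`, `σ` the type of `α`;
* `ip_beta_map` : the multiplicities of `θ ∘ α`.
-/

set_option autoImplicit false
set_option linter.unusedSectionVars false

open Cfsg Subgroup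
open Cfsg.Agent.H674.XZ Cfsg.Agent.H508.KB Cfsg.Agent.H668.XZ
open Cfsg.Agent.Characters.Core

namespace Cfsg.Agent.H504.XZ

universe u

section abs

variable {p : ℕ} [Fact p.Prime] {M : Ideal AlgInt}

/-- stable sets give different orbits -/
theorem le_kap0_of_stable {S : Type u} [Group S] [Finite S] {R : ℕ} (X : Fin R → Set (IrrCharacter S))
    (hd : ∀ i j, i ≠ j → Disjoint (X i) (X j)) (h0 : ∀ i, ∃ θ ∈ X i, Mem0 p M θ)
    (hst : ∀ i, ∀ θ ∈ X i, ∀ α : MulAut S, H443.XC.PrA p α → ∀ θ' : IrrCharacter S,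
      (∀ s, (θ' : S → ℂ) s = (θ : S → ℂ) (α s)) → θ' ∈ X i)
    {A : Type u} [Group A] [Finite A] (T : Subgroup A) [T.Normal] (e : S ≃* ↥T) (hcop : ¬ p ∣ T.index) :
    R ≤ kap0 p M T := by
  choose θ h1 h2 using h0
  let θ' : Fin R → {χ : IrrCharacter ↥T // Mem0 p M χ} := fun i =>
    ⟨⟨fun g => (θ i : S → ℂ) (e.symm g), isIrr_comp e.symm.toMonoidHom e.symm.surjective (θ i).2⟩, mem0_comp e.symm (h2 i)⟩
  have hfin : Finite {χ : IrrCharacter ↥T // Mem0 p M χ} := finite_mem0
  have hinj : Function.Injective fun i : Fin R => (Quotient.mk (orbSetoid0 p M T) (θ' i)) := by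
    intro i j hij
    obtain ⟨a, ha⟩ := Quotient.exact hij
    by_contra hne
    have h5 : θ j ∈ X i := by
      refine hst i (θ i) (h1 i) (autOf T e a) (prA_of_conj T e hcop a) (θ j) fun s => ?_
      have h6 := ha (e s)
      change (θ j : S → ℂ) (e.symm (e s)) = (θ i : S → ℂ) (e.symm (MulAut.conjNormal a (e s))) at h6
      rw [e.symm_apply_apply] at h6
      exact h6
    exact Set.disjoint_left.1 (hd i j hne) h5 (h1 j)
  have h5 := Nat.card_le_card_of_injective _ hinj
  rwa [Nat.card_eq_fintype_card, Fintype.card_fin] at h5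

/-- **The row from stable families** -/
theorem row0_of_stable {S : Type u} [Group S] [Finite S] (hM : IsPModular p M) {R : ℕ} (hR : 4 * (p - 1) < R ^ 2)
    (X : Fin R → Set (IrrCharacter S)) (hd : ∀ i j, i ≠ j → Disjoint (X i) (X j)) (h0 : ∀ i, ∃ θ ∈ X i, Mem0 p M θ)
    (hst : ∀ i, ∀ θ ∈ X i, ∀ α : MulAut S, H443.XC.PrA p α → ∀ θ' : IrrCharacter S,
      (∀ s, (θ' : S → ℂ) s = (θ : S → ℂ) (α s)) → θ' ∈ X i) : Row0 p M S :=
  row0_of_le_kap0 hM hR fun _ _ _ T _ e _ hcop => le_kap0_of_stable X hd h0 hst T e hcop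

end abs

section Rgd

open CoxeterSystem Cfsg.Agent.ChevalleyStructure.CoxeterGeom Cfsg.Agent.Tits.Roots Cfsg.Agent.Tits.Core
  Cfsg.Agent.Tits.Exchange Cfsg.Agent.Nodes.Reps Cfsg.Agent.Nodes.BNOf Cfsg.Agent.Nodes.StabComb
  Cfsg.Agent.Nodes.Bruhat Cfsg.Agent.Nodes.OppDec Cfsg.Agent.Nodes.LeviDec
  Cfsg.Agent.H796.BR Cfsg.Agent.H116.StAut Cfsg.Agent.H967.XZ Cfsg.Agent.H145.BR

variable {I W S : Type*} [Fintype I] [DecidableEq I] [Group W] [Finite W] [Group S] [Finite S] {Mx : CoxeterMatrix I}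
  {cs : CoxeterSystem Mx W} {A : I → I → ℤ} {h : IsCartan Mx A} {r : ℕ} [Fact r.Prime] {T : Subgroup S} {n : I → S}
  {X : (I → ℤ) → Subgroup S} (R : RGD cs h r T n X)

/-- fixed points of `α s` on the cosets of `P_(σ J)` -/
theorem fix_map {α : MulAut S} {g : S} {σ : Equiv.Perm I} (hg : Gel cs h T X α g σ) (J : Set I) (s : S) :
    fixedPointCharacter (PJ cs h T X (σ '' J)) (α s) = fixedPointCharacter (PJ cs h T X J) s := by
  have key : ∀ x y : S, ((α x * g : S) : S ⧸ PJ cs h T X (σ '' J)) = ((α y * g : S) : S ⧸ PJ cs h T X (σ '' J)) ↔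
      (x : S ⧸ PJ cs h T X J) = (y : S ⧸ PJ cs h T X J) := by
    intro x y
    rw [QuotientGroup.eq, QuotientGroup.eq, ← hg J (x⁻¹ * y), map_mul, map_inv]
    have e : (α x * g)⁻¹ * (α y * g) = g⁻¹ * ((α x)⁻¹ * α y) * g := by group
    rw [e]
  let F : S ⧸ PJ cs h T X J → S ⧸ PJ cs h T X (σ '' J) :=
    Quotient.lift (fun x : S => ((α x * g : S) : S ⧸ PJ cs h T X (σ '' J))) (by
      intro x y hxy
      exact (key x y).2 (Quotient.sound hxy))
  have hF : ∀ x : S, F (x : S ⧸ PJ cs h T X J) = ((α x * g : S) : S ⧸ PJ cs h T X (σ '' J)) := fun x => rfl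
  have hinj : Function.Injective F := by
    intro a b
    refine QuotientGroup.induction_on a fun x => QuotientGroup.induction_on b fun y hxy => ?_
    rw [hF, hF] at hxy
    exact (key x y).1 hxy
  have hsur : Function.Surjective F := by
    intro b
    refine QuotientGroup.induction_on b fun y => ⟨((α.symm (y * g⁻¹) : S) : S ⧸ PJ cs h T X J), ?_⟩
    rw [hF]
    have e : α (α.symm (y * g⁻¹)) * g = y := by
      rw [MulEquiv.apply_symm_apply]
      group
    rw [e]
  have hsm : ∀ (s : S) (a : S ⧸ PJ cs h T X J), F (s • a) = α s • F a := by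
    intro s a
    refine QuotientGroup.induction_on a fun x => ?_
    have e1 : s • (x : S ⧸ PJ cs h T X J) = ((s * x : S) : S ⧸ PJ cs h T X J) := rfl
    rw [e1, hF, hF]
    have e2 : α s • ((α x * g : S) : S ⧸ PJ cs h T X (σ '' J)) = ((α s * (α x * g) : S) : S ⧸ PJ cs h T X (σ '' J)) := rfl
    rw [e2, map_mul, mul_assoc]
  unfold fixedPointCharacter
  rw [Nat.cast_inj]
  symm
  have hbij : Function.Bijective F := ⟨hinj, hsur⟩
  refine Nat.card_congr ((Equiv.ofBijective F hbij).subtypeEquiv fun a => ?_)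
  change s • a = a ↔ α s • F a = F a
  rw [← hsm]
  exact hinj.eq_iff.symm

theorem QPJ_map {α : MulAut S} {g : S} {σ : Equiv.Perm I} (hg : Gel cs h T X α g σ) (J K : Finset I) (s : S) :
    QPJ cs h T X (J.map σ.toEmbedding) (K.map σ.toEmbedding) (α s) = QPJ cs h T X J K s := by
  unfold QPJ
  symm
  refine Finset.sum_bij (fun L _ => L.map σ.toEmbedding) (fun L hL => ?_) (fun L _ L' _ e => Finset.map_injective _ e)
    (fun L' hL' => ?_) fun L hL => ?_
  · rw [Finset.mem_powerset] at hL ⊢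
    exact Finset.map_subset_map.2 hL
  · rw [Finset.mem_powerset] at hL'
    refine ⟨L'.map σ.symm.toEmbedding, ?_, ?_⟩
    · rw [Finset.mem_powerset]
      intro x hx
      obtain ⟨y, hy, rfl⟩ := Finset.mem_map.1 hx
      obtain ⟨z, hz, e⟩ := Finset.mem_map.1 (hL' hy)
      have e' : σ.symm y = z := by
        rw [← e]
        exact σ.symm_apply_apply z
      change σ.symm y ∈ K
      rw [e']
      exact hz
    · rw [Finset.map_map]
      convert Finset.map_refl using 2
      ext x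
      exact σ.apply_symm_apply x
  · rw [Finset.card_map]
    congr 1
    have e : (((J.map σ.toEmbedding) ∪ (L.map σ.toEmbedding) : Finset I) : Set I) = σ '' ((J ∪ L : Finset I) : Set I) := by
      rw [← Finset.map_union, Finset.coe_map]
      rfl
    rw [e, fix_map hg]

/-- **`betaPJ (σ K) ∘ α = betaPJ K`**, `σ` the type of `α` -/
theorem beta_map (hG : GG cs h T X = ⊤) (α : MulAut S) (K : Finset I) (s : S) :
    betaPJ cs h T X (K.map (typHom R hG α).toEmbedding) (α s) = betaPJ cs h T X K s := by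
  have h1 := QPJ_map (gel_spec R hG α) Kᶜ K s
  have e : (Kᶜ.map (typ R hG α).toEmbedding) = (K.map (typ R hG α).toEmbedding)ᶜ := by
    ext x
    simp only [Finset.mem_map_equiv, Finset.mem_compl]
  rw [e] at h1
  exact h1

/-- the multiplicity of `θ ∘ α` -/
theorem ip_beta_map (hG : GG cs h T X = ⊤) (α : MulAut S) (K : Finset I) (θ θ' : S → ℂ) (hθ : ∀ s, θ' s = θ (α s)) :
    ip (betaPJ cs h T X K) θ' = ip (betaPJ cs h T X (K.map (typHom R hG α).toEmbedding)) θ := by
  have := Fintype.ofFinite S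
  have e1 : θ' = fun s => θ (α s) := funext hθ
  have e2 : betaPJ cs h T X K = fun s => betaPJ cs h T X (K.map (typHom R hG α).toEmbedding) (α s) :=
    funext fun s => (beta_map R hG α K s).symm
  rw [ip_eq, ip_eq, e1]
  conv_lhs => rw [e2]
  unfold classInner
  congr 1
  exact Fintype.sum_equiv α.toEquiv _ _ fun x => rfl

end Rgd

end Cfsg.Agent.H504.XZ
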